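import Mathlib

/-!
Certificates for the class numbers of the subgroups of small symmetric groups that
contain a given seed.  Permutations are coded by natural numbers (three bits per point),
and all tables are packed into natural numbers so that they can be checked by `decide`.
-/

namespace Cfsg.Agent.SqrtThree82.BaseCert

open Equiv

/-- pack `f 0, ..., f (n-1)` with three bits each -/
def pk : Nat → (Nat → Nat) → Nat
  | 0, _ => 0
  | k + 1, f => pk k f + f k <<< (3 * k)

def img (c i : Nat) : Nat := (c >>> (3 * i)) &&& 7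

def mulC (n a b : Nat) : Nat := pk n fun i => img a (img b i)

def allB : Nat → (Nat → Bool) → Bool
  | 0, _ => true
  | k + 1, f => f k && allB k f

def allC (m : Nat) (f : Nat → Bool) : Bool :=
  allB (m / 64 + 1) fun a => allB 64 fun b => !(Nat.blt (64 * a + b) m) || f (64 * a + b)

def get (t w i : Nat) : Nat := (t >>> (w * i)) &&& (2 ^ w - 1)

def valid (n c : Nat) : Bool :=
  Nat.beq (pk n (img c)) c &&
    allB n fun i => Nat.blt (img c i) n && allB i fun j => !(Nat.beq (img c j) (img c i))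

structure Grp where
  size : Nat
  gens : List Nat
  elT : Nat
  parT : Nat
  closeT : Nat
  reps : List Nat
  conjT : Nat
  m : Nat
  cosT : Nat
  witT : Nat
  dblT : Nat
  nd : Nat
  ddT : Nat
  wordT : Nat
deriving Inhabited

variable (n : Nat)

def Grp.e (G : Grp) (i : Nat) : Nat := get G.elT 21 (i % G.size)
def Grp.c (G : Grp) (j : Nat) : Nat := get G.cosT 21 (j % G.m)
def Grp.g (G : Grp) (k : Nat) : Nat := G.gens.getD k (pk n id)
def Grp.rep (G : Grp) (r : Nat) : Nat := G.e (G.reps.getD r 0)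

/-- the image of a point under a coded word in the group elements and one extra element -/
def Grp.ev (G : Grp) (D : Nat) : Nat → Nat → Nat → Nat
  | 0, _, i => i
  | f + 1, w, i =>
    bif Nat.beq (w &&& 8191) 0 then i
    else img (bif Nat.beq (w &&& 8191) 1 then D else G.e ((w &&& 8191) - 2))
      (G.ev D f (w >>> 13) i)

def chkEl (G : Grp) : Bool :=
  Nat.blt 0 G.size && Nat.blt 0 G.m && Nat.beq (G.e 0) (pk n id) && Nat.beq (G.c 0) (pk n id) &&
  allB G.gens.length (fun k => valid n (G.g n k)) &&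
  allC G.size (fun i => Nat.beq i 0 ||
    (Nat.blt (get G.parT 13 (2 * i)) i &&
      Nat.beq (G.e i)
        (mulC n (G.e (get G.parT 13 (2 * i))) (G.g n (get G.parT 13 (2 * i + 1))))))

def chkCl (G : Grp) : Bool :=
  allC G.size fun i => allB G.gens.length fun k =>
    Nat.beq (mulC n (G.e i) (G.g n k)) (G.e (get G.closeT 13 (i * G.gens.length + k)))

def chkCj (B : Nat) (G : Grp) : Bool :=
  Nat.ble G.reps.length B &&
  allC G.size fun i =>
    Nat.blt (get G.conjT 13 (2 * i + 1)) G.reps.length &&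
    Nat.beq (mulC n (G.e (get G.conjT 13 (2 * i))) (G.e i))
      (mulC n (G.rep (get G.conjT 13 (2 * i + 1))) (G.e (get G.conjT 13 (2 * i))))

def chkCo (A A' : Nat) (G : Grp) : Bool :=
  allC G.m fun j => valid n (G.c j) &&
    Nat.beq (mulC n A (G.c j))
      (mulC n (G.c (get G.witT 13 (4 * j))) (G.e (get G.witT 13 (4 * j + 1)))) &&
    Nat.beq (mulC n A' (G.c j))
      (mulC n (G.c (get G.witT 13 (4 * j + 2))) (G.e (get G.witT 13 (4 * j + 3))))

def chkDbl (G : Grp) : Bool :=
  allC G.m fun j => Nat.beq j 0 ||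
    (Nat.blt (get G.dblT 13 (3 * j + 1)) G.nd &&
      Nat.beq (G.c j) (pk n fun i => img (G.e (get G.dblT 13 (3 * j)))
        (img (get G.ddT 21 (3 * get G.dblT 13 (3 * j + 1)))
          (img (G.e (get G.dblT 13 (3 * j + 2))) i))))

def chkDD (L : List Grp) (a : Nat) (G : Grp) : Bool :=
  allC G.nd fun d => valid n (get G.ddT 21 (3 * d)) && valid n (get G.ddT 21 (3 * d + 2)) &&
    Nat.blt a (get G.ddT 21 (3 * d + 1)) && Nat.blt (get G.ddT 21 (3 * d + 1)) L.length &&
    allB (L.getD (get G.ddT 21 (3 * d + 1)) default).gens.length fun k =>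
      Nat.beq
        (mulC n (pk n (G.ev (get G.ddT 21 (3 * d)) 18 (get G.wordT 234 (4 * d + k))))
          (get G.ddT 21 (3 * d + 2)))
        (mulC n (get G.ddT 21 (3 * d + 2))
          ((L.getD (get G.ddT 21 (3 * d + 1)) default).g n k))

def chkGrp (B A A' : Nat) (L : List Grp) (a : Nat) : Bool :=
  chkEl n (L.getD a default) && chkCl n (L.getD a default) && chkCj n B (L.getD a default) &&
    chkCo n A A' (L.getD a default) && chkDbl n (L.getD a default) && chkDD n L a (L.getD a default)

/-! ### Arithmetic of the codes -/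

theorem allB_spec {m : Nat} {f : Nat → Bool} (h : allB m f = true) : ∀ i < m, f i = true := by
  induction m with
  | zero => intro i hi; omega
  | succ m ih =>
    rw [allB, Bool.and_eq_true] at h
    intro i hi
    rcases Nat.lt_succ_iff_lt_or_eq.mp hi with hi | rfl
    · exact ih h.2 i hi
    · exact h.1

theorem allC_spec {m : Nat} {f : Nat → Bool} (h : allC m f = true) : ∀ i < m, f i = true := by
  intro i hi
  have h1 := allB_spec (allB_spec h (i / 64) (by omega)) (i % 64) (by omega)
  rw [Nat.div_add_mod] at h1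
  have hb : Nat.blt i m = true := by simpa using hi
  simpa [hb] using h1

theorem beq_spec {a b : Nat} (h : Nat.beq a b = true) : a = b := Nat.eq_of_beq_eq_true h

theorem blt_spec {a b : Nat} (h : Nat.blt a b = true) : a < b := by simpa using h

theorem img_eq (c i : Nat) : img c i = c / 8 ^ i % 8 := by
  rw [img, Nat.shiftRight_eq_div_pow, pow_mul]
  exact Nat.and_two_pow_sub_one_eq_mod _ 3

theorem pk_succ (k : Nat) (f : Nat → Nat) : pk (k + 1) f = pk k f + f k * 8 ^ k := by
  rw [pk, Nat.shiftLeft_eq, pow_mul]; rfl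

theorem pk_lt {n : Nat} {f : Nat → Nat} (hf : ∀ i < n, f i < 8) : pk n f < 8 ^ n := by
  induction n with
  | zero => simp [pk]
  | succ n ih =>
    have h1 := ih fun i hi => hf i (by omega)
    have h2 : f n * 8 ^ n ≤ 7 * 8 ^ n := Nat.mul_le_mul_right _ (Nat.le_of_lt_succ (hf n (by omega)))
    rw [pk_succ, pow_succ]
    omega

theorem img_pk {n : Nat} {f : Nat → Nat} (hf : ∀ i < n, f i < 8) {i : Nat} (hi : i < n) :
    img (pk n f) i = f i := by
  rw [img_eq]
  induction n with
  | zero => omega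
  | succ n ih =>
    rw [pk_succ]
    rcases Nat.lt_succ_iff_lt_or_eq.mp hi with hi' | rfl
    · obtain ⟨t, rfl⟩ := Nat.exists_eq_add_of_lt hi'
      have : f (i + t + 1) * 8 ^ (i + t + 1) = 8 ^ i * (8 * (f (i + t + 1) * 8 ^ t)) := by ring
      rw [this, Nat.add_mul_div_left _ _ (by positivity), Nat.add_mul_mod_self_left]
      exact ih (fun j hj => hf j (by omega)) hi'
    · rw [Nat.add_mul_div_right _ _ (by positivity),
        Nat.div_eq_of_lt (pk_lt fun j hj => hf j (by omega))]
      simp [Nat.mod_eq_of_lt (hf i hi)]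

theorem pk_congr {n : Nat} {f g : Nat → Nat} (h : ∀ i < n, f i = g i) : pk n f = pk n g := by
  induction n with
  | zero => rfl
  | succ n ih => rw [pk, pk, ih fun i hi => h i (by omega), h n (by omega)]

variable {n}

def fn (σ : Perm (Fin n)) (i : Nat) : Nat := if h : i < n then (σ ⟨i, h⟩).val else i

theorem fn_lt (σ : Perm (Fin n)) {i : Nat} (hi : i < n) : fn σ i < n := by
  rw [fn, dif_pos hi]; exact Fin.isLt _

theorem fn_one (i : Nat) : fn (1 : Perm (Fin n)) i = i := by
  unfold fn; split <;> simp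

theorem fn_mul (σ τ : Perm (Fin n)) {i : Nat} (hi : i < n) : fn (σ * τ) i = fn σ (fn τ i) := by
  simp [fn, hi]

def code (σ : Perm (Fin n)) : Nat := pk n (fn σ)

theorem code_one : code (1 : Perm (Fin n)) = pk n id := pk_congr fun i _ => fn_one i

variable (hn : n ≤ 8)
include hn

theorem img_code (σ : Perm (Fin n)) {i : Nat} (hi : i < n) : img (code σ) i = fn σ i :=
  img_pk (fun _ hj => lt_of_lt_of_le (fn_lt σ hj) hn) hi

theorem code_mul (σ τ : Perm (Fin n)) : code (σ * τ) = mulC n (code σ) (code τ) :=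
  pk_congr fun i hi => by
    rw [fn_mul σ τ hi, img_code hn τ hi, img_code hn σ (fn_lt τ hi)]

theorem code_inj {σ τ : Perm (Fin n)} (h : code σ = code τ) : σ = τ := by
  apply Equiv.ext
  intro i
  have h1 := img_code hn σ i.isLt
  rw [h, img_code hn τ i.isLt] at h1
  simp only [fn, dif_pos i.isLt] at h1
  exact Fin.ext h1.symm

omit hn in
theorem exists_code {c : Nat} (h : valid n c = true) : ∃ σ : Perm (Fin n), code σ = c := by
  rw [valid, Bool.and_eq_true] at h
  have h2 : ∀ i < n, img c i < n ∧ ∀ j < i, img c j ≠ img c i := by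
    intro i hi
    have := allB_spec h.2 i hi
    rw [Bool.and_eq_true] at this
    refine ⟨blt_spec this.1, fun j hj he => ?_⟩
    have h3 := allB_spec this.2 j hj
    rw [he] at h3
    simp at h3
  let f : Fin n → Fin n := fun i => ⟨img c i, (h2 i i.isLt).1⟩
  have hf : Function.Injective f := by
    intro a b hab
    have hab' : img c a = img c b := congrArg Fin.val hab
    rcases lt_trichotomy (a : Nat) b with hl | he | hl
    · exact absurd hab' ((h2 b b.isLt).2 a hl)
    · exact Fin.ext he
    · exact absurd hab'.symm ((h2 a a.isLt).2 b hl)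
  refine ⟨Equiv.ofBijective f (Finite.injective_iff_bijective.mp hf), ?_⟩
  refine Eq.trans (pk_congr fun i hi => ?_) (beq_spec h.1)
  simp [fn, hi, f]

/-! ### The certificate -/

/-- the code `c` belongs to a permutation in `H` -/
def In (H : Subgroup (Perm (Fin n))) (c : Nat) : Prop := ∃ σ ∈ H, code σ = c

omit hn in
theorem in_one (H : Subgroup (Perm (Fin n))) : In H (pk n id) := ⟨1, one_mem _, code_one⟩

omit hn in
theorem gen_in_of_lt {G : Grp} {H : Subgroup (Perm (Fin n))}
    (h : ∀ k < G.gens.length, In H (G.g n k)) (k : Nat) : In H (G.g n k) := by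
  by_cases hk : k < G.gens.length
  · exact h k hk
  · rw [Grp.g, List.getD_eq_default _ _ (not_lt.mp hk)]
    exact in_one H

theorem el_in {G : Grp} (hG : chkEl n G = true) {H : Subgroup (Perm (Fin n))}
    (h : ∀ k, In H (G.g n k)) : ∀ i, In H (G.e i) := by
  simp only [chkEl, Bool.and_eq_true] at hG
  obtain ⟨⟨⟨⟨⟨hs, -⟩, h0⟩, -⟩, -⟩, hel⟩ := hG
  suffices key : ∀ i, i < G.size → In H (G.e i) by
    intro i
    have : G.e i = G.e (i % G.size) := by simp [Grp.e]
    rw [this]
    exact key _ (Nat.mod_lt _ (blt_spec hs))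
  intro i
  induction i using Nat.strong_induction_on with
  | _ i ih =>
    intro hi
    have hi' := allC_spec hel i hi
    rcases eq_or_ne i 0 with rfl | hne
    · rw [beq_spec h0]; exact in_one H
    · rw [Bool.or_eq_true, Bool.and_eq_true] at hi'
      rcases hi' with hi' | ⟨hp, he⟩
      · exact absurd (beq_spec hi') hne
      · obtain ⟨σ, hσ, hσc⟩ := ih _ (blt_spec hp) ((blt_spec hp).trans hi)
        obtain ⟨τ, hτ, hτc⟩ := h (get G.parT 13 (2 * i + 1))
        exact ⟨σ * τ, mul_mem hσ hτ, by rw [code_mul hn, hσc, hτc, beq_spec he]⟩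

omit hn in
theorem gen_valid {G : Grp} (hG : chkEl n G = true) (k : Nat) :
    In (⊤ : Subgroup (Perm (Fin n))) (G.g n k) := by
  simp only [chkEl, Bool.and_eq_true] at hG
  refine gen_in_of_lt (fun k hk => ?_) k
  obtain ⟨σ, hσ⟩ := exists_code (allB_spec hG.1.2 k hk)
  exact ⟨σ, trivial, hσ⟩

theorem el_valid {G : Grp} (hG : chkEl n G = true) (i : Nat) :
    ∃ σ : Perm (Fin n), code σ = G.e i := by
  obtain ⟨σ, -, h⟩ := el_in hn hG (gen_valid hG) i
  exact ⟨σ, h⟩

theorem el_mul {G : Grp} (hG : chkEl n G = true) (hC : chkCl n G = true) :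
    ∀ {x y : Perm (Fin n)} {i l : Nat}, code x = G.e i → code y = G.e l →
      ∃ q, code (x * y) = G.e q := by
  have hG' := hG
  simp only [chkEl, Bool.and_eq_true] at hG'
  obtain ⟨⟨⟨⟨⟨hs, -⟩, h0⟩, -⟩, -⟩, hel⟩ := hG'
  have hmod : ∀ j, G.e j = G.e (j % G.size) := fun j => by simp [Grp.e]
  suffices key : ∀ l, l < G.size → ∀ (x y : Perm (Fin n)) (i : Nat),
      code x = G.e i → code y = G.e l → ∃ q, code (x * y) = G.e q by
    intro x y i l hx hy
    exact key _ (Nat.mod_lt _ (blt_spec hs)) x y i hx (hy.trans (hmod l))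
  intro l
  induction l using Nat.strong_induction_on with
  | _ l ih =>
    intro hl x y i hx hy
    have hl' := allC_spec hel l hl
    rcases eq_or_ne l 0 with rfl | hne
    · have : y = 1 := code_inj hn (by rw [hy, beq_spec h0, code_one])
      exact ⟨i, by rw [this, mul_one, hx]⟩
    · rw [Bool.or_eq_true, Bool.and_eq_true] at hl'
      rcases hl' with hl' | ⟨hp, he⟩
      · exact absurd (beq_spec hl') hne
      · obtain ⟨p, hpc⟩ := el_valid hn hG (get G.parT 13 (2 * l))
        obtain ⟨γ, -, hγ⟩ := gen_valid hG (get G.parT 13 (2 * l + 1))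
        have hy' : y = p * γ := code_inj hn (by rw [code_mul hn, hpc, hγ, hy, beq_spec he])
        obtain ⟨q, hq⟩ := ih _ (blt_spec hp) ((blt_spec hp).trans hl) x p i hx hpc
        by_cases hk : get G.parT 13 (2 * l + 1) < G.gens.length
        · refine ⟨get G.closeT 13 ((q % G.size) * G.gens.length + get G.parT 13 (2 * l + 1)), ?_⟩
          have hc := beq_spec (allB_spec (allC_spec hC (q % G.size) (Nat.mod_lt _ (blt_spec hs))) _ hk)
          rw [hy', ← mul_assoc, code_mul hn, hγ, hq, hmod q, hc]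
        · refine ⟨q, ?_⟩
          have : γ = 1 := code_inj hn (by
            rw [hγ, Grp.g, List.getD_eq_default _ _ (not_lt.mp hk), code_one])
          rw [hy', this, mul_one, hq]

theorem cover {G : Grp} {α β : Perm (Fin n)} (hgen : Subgroup.closure {α, β} = ⊤)
    (hG : chkEl n G = true) (hC : chkCl n G = true) (hK : chkCo n (code α) (code β) G = true)
    (x : Perm (Fin n)) :
    ∃ j l, j < G.m ∧ ∃ ρ μ : Perm (Fin n), code ρ = G.c j ∧ code μ = G.e l ∧ x = ρ * μ := by
  have hG' := hG
  simp only [chkEl, Bool.and_eq_true] at hG'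
  obtain ⟨⟨⟨⟨⟨-, hm⟩, h0⟩, hc0⟩, -⟩, -⟩ := hG'
  have hm' := blt_spec hm
  let P : Perm (Fin n) → Prop := fun x =>
    ∃ j l, j < G.m ∧ ∃ ρ μ : Perm (Fin n), code ρ = G.c j ∧ code μ = G.e l ∧ x = ρ * μ
  have hP1 : P 1 := ⟨0, 0, hm', 1, 1, by rw [code_one, beq_spec hc0],
    by rw [code_one, beq_spec h0], by simp⟩
  have step : ∀ {a : Perm (Fin n)} {wj wl : Nat → Nat},
      (∀ j < G.m, valid n (G.c j) = true ∧
        mulC n (code a) (G.c j) = mulC n (G.c (wj j)) (G.e (wl j))) →
      ∀ y, P y → P (a * y) := by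
    intro a wj wl hw y hy
    obtain ⟨j, l, hj, ρ, μ, hρ, hμ, rfl⟩ := hy
    have hval := (hw (wj j % G.m) (Nat.mod_lt _ hm')).1
    have hmodc : G.c (wj j % G.m) = G.c (wj j) := by simp [Grp.c]
    rw [hmodc] at hval
    obtain ⟨ρ', hρ'⟩ := exists_code hval
    obtain ⟨μ', hμ'⟩ := el_valid hn hG (wl j)
    have he : a * ρ = ρ' * μ' := code_inj hn (by
      rw [code_mul hn, code_mul hn, hρ, hρ', hμ', (hw j hj).2])
    obtain ⟨q, hq⟩ := el_mul hn hG hC hμ' hμ
    exact ⟨wj j % G.m, q, Nat.mod_lt _ hm', ρ', μ' * μ, by rw [hρ', hmodc], hq,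
      by rw [← mul_assoc, he, mul_assoc]⟩
  have hα : ∀ y, P y → P (α * y) :=
    step (wj := fun j => get G.witT 13 (4 * j)) (wl := fun j => get G.witT 13 (4 * j + 1))
      fun j hj => by
        have := allC_spec hK j hj
        simp only [Bool.and_eq_true] at this
        exact ⟨this.1.1, beq_spec this.1.2⟩
  have hβ : ∀ y, P y → P (β * y) :=
    step (wj := fun j => get G.witT 13 (4 * j + 2)) (wl := fun j => get G.witT 13 (4 * j + 3))
      fun j hj => by
        have := allC_spec hK j hj
        simp only [Bool.and_eq_true] at this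
        exact ⟨this.1.1, beq_spec this.2⟩
  have hx : x ∈ Submonoid.closure ({α, β} : Set (Perm (Fin n))) := by
    rw [← Subgroup.closure_toSubmonoid_of_finite, Subgroup.mem_toSubmonoid, hgen]
    trivial
  have main : ∀ y, P y → P (x * y) := by
    induction hx using Submonoid.closure_induction with
    | mem a ha =>
      rcases ha with rfl | ha
      · exact hα
      · rw [Set.mem_singleton_iff.mp ha]; exact hβ
    | one => intro y hy; rwa [one_mul]
    | mul a b _ _ ha hb => intro y hy; rw [mul_assoc]; exact ha _ (hb _ hy)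
  have h1 := main 1 hP1
  rwa [mul_one] at h1

theorem ev_in {G : Grp} {H : Subgroup (Perm (Fin n))} {δ : Perm (Fin n)}
    (hδ : δ ∈ H) (hel : ∀ i, In H (G.e i)) :
    ∀ f w, ∃ σ ∈ H, ∀ i < n, G.ev (code δ) f w i = fn σ i := by
  intro f
  induction f with
  | zero => exact fun w => ⟨1, one_mem _, fun i _ => (fn_one i).symm⟩
  | succ f ih =>
    intro w
    cases h0 : Nat.beq (w &&& 8191) 0 with
    | true => exact ⟨1, one_mem _, fun i _ => by rw [Grp.ev, h0, fn_one]; rfl⟩
    | false =>
      obtain ⟨τ, hτ, hτi⟩ := ih (w >>> 13)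
      have hs : In H (bif Nat.beq (w &&& 8191) 1 then code δ else G.e ((w &&& 8191) - 2)) := by
        cases Nat.beq (w &&& 8191) 1
        · exact hel _
        · exact ⟨δ, hδ, rfl⟩
      obtain ⟨σ, hσ, hσc⟩ := hs
      refine ⟨σ * τ, mul_mem hσ hτ, fun i hi => ?_⟩
      rw [Grp.ev, h0, cond_false, ← hσc, hτi i hi, img_code hn σ (fn_lt τ hi), fn_mul σ τ hi]

omit hn in
theorem card_classes_le_map (H : Subgroup (Perm (Fin n))) (τ : Perm (Fin n)) :
    Nat.card (ConjClasses H) ≤
      Nat.card (ConjClasses (H.map (MulAut.conj τ).toMonoidHom)) := by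
  let e := H.equivMapOfInjective (MulAut.conj τ).toMonoidHom (MulAut.conj τ).injective
  exact Nat.card_le_card_of_surjective _
    (ConjClasses.map_surjective (f := e.symm.toMonoidHom) e.symm.surjective)

/-- If every group of the list passes the check, every subgroup containing the generators of
one of them has at most `B` classes. -/
theorem classes_le {B : Nat} {L : List Grp} {α β : Perm (Fin n)}
    (hgen : Subgroup.closure {α, β} = ⊤)
    (hchk : ∀ a < L.length, chkGrp n B (code α) (code β) L a = true)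
    (a : Nat) (ha : a < L.length) (H : Subgroup (Perm (Fin n)))
    (hH : ∀ k < (L.getD a default).gens.length, In H ((L.getD a default).g n k)) :
    Nat.card (ConjClasses H) ≤ B := by
  induction hb : L.length - a using Nat.strong_induction_on generalizing a H with
  | _ b ih =>
    have h := hchk a ha
    simp only [chkGrp, Bool.and_eq_true] at h
    obtain ⟨⟨⟨⟨⟨hE, hC⟩, hJ⟩, hK⟩, hDb⟩, hDD⟩ := h
    generalize hGdef : L.getD a default = G at hE hC hJ hK hDb hDD hH
    have hel := el_in hn hE (H := H) (gen_in_of_lt hH)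
    have hE' := hE
    simp only [chkEl, Bool.and_eq_true] at hE'
    obtain ⟨⟨⟨⟨⟨hs, -⟩, -⟩, hc0⟩, -⟩, -⟩ := hE'
    by_cases hall : ∀ σ ∈ H, ∃ l, code σ = G.e l
    · simp only [chkCj, Bool.and_eq_true] at hJ
      refine le_trans ?_ (Nat.le_of_ble_eq_true hJ.1)
      choose ρ hρ hρc using fun r : Fin G.reps.length => hel (G.reps.getD r 0)
      refine le_of_le_of_eq (Nat.card_le_card_of_surjective
        (fun r => ConjClasses.mk (⟨ρ r, hρ r⟩ : H)) ?_) (Nat.card_fin _)
      intro C
      obtain ⟨⟨σ, hσ⟩, rfl⟩ := ConjClasses.mk_surjective C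
      obtain ⟨l, hl⟩ := hall σ hσ
      have hj := allC_spec hJ.2 (l % G.size) (Nat.mod_lt _ (blt_spec hs))
      rw [Bool.and_eq_true] at hj
      have hmod : G.e (l % G.size) = G.e l := by simp [Grp.e]
      rw [hmod] at hj
      obtain ⟨γ, hγ, hγc⟩ := hel (get G.conjT 13 (2 * (l % G.size)))
      refine ⟨⟨_, blt_spec hj.1⟩, ?_⟩
      symm
      rw [ConjClasses.mk_eq_mk_iff_isConj, isConj_iff]
      refine ⟨⟨γ, hγ⟩, ?_⟩
      rw [mul_inv_eq_iff_eq_mul]
      apply Subtype.ext
      apply code_inj hn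
      change code (γ * σ) = code (ρ _ * γ)
      rw [code_mul hn, code_mul hn, hγc, hl, hρc]
      exact beq_spec hj.2
    · simp only [not_forall, not_exists] at hall
      obtain ⟨σ, hσ, hne⟩ := hall
      obtain ⟨j, l, hj, ρ, μ, hρ, hμ, rfl⟩ := cover hn hgen hE hC hK σ
      have hj0 : j ≠ 0 := by
        rintro rfl
        have : ρ = 1 := code_inj hn (by rw [hρ, beq_spec hc0, code_one])
        exact hne l (by rw [this, one_mul, hμ])
      have hμH : μ ∈ H := by
        obtain ⟨μ', hμ', hμc⟩ := hel l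
        rwa [code_inj hn (hμ.trans hμc.symm)]
      have hρH : ρ ∈ H := by simpa using mul_mem hσ (inv_mem hμH)
      have hdb := allC_spec hDb j hj
      rw [Bool.or_eq_true, Bool.and_eq_true] at hdb
      rcases hdb with hdb | ⟨hd, hdeq⟩
      · exact absurd (beq_spec hdb) hj0
      generalize get G.dblT 13 (3 * j + 1) = d at hd hdeq
      have hdd := allC_spec hDD d (blt_spec hd)
      simp only [Bool.and_eq_true] at hdd
      obtain ⟨⟨⟨⟨hvD, hvT⟩, hlt⟩, hlen⟩, hwords⟩ := hdd
      obtain ⟨δ, hδc⟩ := exists_code hvD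
      obtain ⟨τ, hτc⟩ := exists_code hvT
      obtain ⟨p, hp, hpc⟩ := hel (get G.dblT 13 (3 * j))
      obtain ⟨q, hq, hqc⟩ := hel (get G.dblT 13 (3 * j + 2))
      have hρeq : ρ = p * (δ * q) := by
        apply code_inj hn
        rw [hρ, beq_spec hdeq, code]
        refine pk_congr fun i hi => ?_
        rw [← hpc, ← hqc, ← hδc, img_code hn q hi, img_code hn δ (fn_lt q hi),
          img_code hn p (fn_lt δ (fn_lt q hi)), fn_mul p (δ * q) hi, fn_mul δ q hi]
      have hδH : δ ∈ H := by
        have : δ = p⁻¹ * ρ * q⁻¹ := by rw [hρeq]; group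
        rw [this]
        exact mul_mem (mul_mem (inv_mem hp) hρH) (inv_mem hq)
      generalize get G.ddT 21 (3 * d + 1) = a' at hlt hlen hwords
      have hlt' := blt_spec hlt
      have hlen' := blt_spec hlen
      refine le_trans (card_classes_le_map H τ⁻¹) ?_
      refine ih (L.length - a') (by omega) a' hlen' _ ?_ rfl
      intro k hk
      have hw := beq_spec (allB_spec hwords k hk)
      obtain ⟨x, hx, hxi⟩ := ev_in hn hδH hel 18 (get G.wordT 234 (4 * d + k))
      rw [hδc] at hxi
      rw [pk_congr hxi, show pk n (fn x) = code x from rfl, ← hτc] at hw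
      refine ⟨τ⁻¹ * x * τ, ⟨x, hx, by simp⟩, ?_⟩
      have hγ : ∃ γ : Perm (Fin n), code γ = (L.getD a' default).g n k := by
        have h' := hchk a' hlen'
        simp only [chkGrp, Bool.and_eq_true] at h'
        obtain ⟨γ, -, hγ⟩ := gen_valid h'.1.1.1.1.1 k
        exact ⟨γ, hγ⟩
      obtain ⟨γ, hγ⟩ := hγ
      rw [← hγ, ← code_mul hn, ← code_mul hn] at hw
      rw [← hγ, mul_assoc, code_inj hn hw, inv_mul_cancel_left]

end Cfsg.Agent.SqrtThree82.BaseCert
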